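import Mathlib
import Groth.Prelude.Def_HopfRep
import Groth.Prelude.Def_ComodSub

/-!
# Linearity of flat affine groups with the resolution property
-/

set_option autoImplicit false
set_option linter.style.haveILetI false
set_option linter.unusedSectionVars false

universe u

open TensorProduct

namespace Groth.Misc1.Linear

variable {R : Type u} [CommRing R] {A : Type u} [CommRing A] [HopfAlgebra R A]

/-- the coefficient of a form on a comodule -/
noncomputable def cfR {V : Type u} [AddCommGroup V] [Module R V] [HopfRep.Comod R A V] (ψ : V →ₗ[R] R) :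
    V →ₗ[R] A :=
  (TensorProduct.lid R A).toLinearMap ∘ₗ ψ.rTensor A ∘ₗ HopfRep.Comod.coact (k := R) (A := A)

section Coefficient
variable {V : Type u} [AddCommGroup V] [Module R V] [HopfRep.Comod R A V]

lemma cfR_comp {W : Type u} [AddCommGroup W] [Module R W] [HopfRep.Comod R A W] {π : V →ₗ[R] W}
    (hπ : HopfRep.Comod.coact (k := R) (A := A) ∘ₗ π = π.rTensor A ∘ₗ HopfRep.Comod.coact (k := R) (A := A))
    (ψ : W →ₗ[R] R) (x : V) : cfR (A := A) ψ (π x) = cfR (A := A) (ψ ∘ₗ π) x := by
  have h := LinearMap.congr_fun hπ x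
  simp only [LinearMap.comp_apply] at h
  simp only [cfR, LinearMap.comp_apply, h, LinearMap.rTensor_comp_apply]

lemma comul_cfR (ψ : V →ₗ[R] R) (x : V) :
    Coalgebra.comul (R := R) (cfR (A := A) ψ x) =
      (cfR (A := A) ψ).rTensor A (HopfRep.Comod.coact (k := R) (A := A) x) := by
  have h := LinearMap.congr_fun (HopfRep.Comod.coassoc (k := R) (A := A) (V := V)) x
  simp only [LinearMap.comp_apply, LinearEquiv.coe_coe] at h
  have e1 : ∀ z : V ⊗[R] A, Coalgebra.comul (R := R) (TensorProduct.lid R A (ψ.rTensor A z)) =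
      TensorProduct.lid R (A ⊗[R] A) (ψ.rTensor (A ⊗[R] A)
        ((Coalgebra.comul (R := R) (A := A)).lTensor V z)) := fun z => by
    induction z using TensorProduct.induction_on with
    | zero => simp
    | tmul a b => simp
    | add a b ha hb => simp only [map_add, ha, hb]
  have e2 : ∀ z : (V ⊗[R] A) ⊗[R] A, TensorProduct.lid R (A ⊗[R] A) (ψ.rTensor (A ⊗[R] A)
      (TensorProduct.assoc R V A A z)) =
      ((TensorProduct.lid R A).toLinearMap ∘ₗ ψ.rTensor A).rTensor A z := fun z => by
    induction z using TensorProduct.induction_on with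
    | zero => simp
    | tmul a b =>
      induction a using TensorProduct.induction_on with
      | zero => simp
      | tmul p q => simp [TensorProduct.smul_tmul']
      | add p q hp hq => simp only [TensorProduct.add_tmul, map_add, hp, hq]
    | add a b ha hb => simp only [map_add, ha, hb]
  simp only [cfR, LinearMap.comp_apply, LinearEquiv.coe_coe]
  rw [e1, ← h, e2, ← LinearMap.rTensor_comp_apply]
  rfl

lemma counit_cfR (ψ : V →ₗ[R] R) (x : V) : Coalgebra.counit (R := R) (cfR (A := A) ψ x) = ψ x := by
  have h := LinearMap.congr_fun (HopfRep.Comod.counit_comp (k := R) (A := A) (V := V)) x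
  simp only [LinearMap.comp_apply] at h
  have e : ∀ z : V ⊗[R] A, Coalgebra.counit (R := R) (TensorProduct.lid R A (ψ.rTensor A z)) =
      TensorProduct.rid R R (ψ.rTensor R ((Coalgebra.counit (R := R) (A := A)).lTensor V z)) := fun z => by
    induction z using TensorProduct.induction_on with
    | zero => simp
    | tmul a b => simp [mul_comm]
    | add a b ha hb => simp only [map_add, ha, hb]
  simp only [cfR, LinearMap.comp_apply, LinearEquiv.coe_coe]
  rw [e, h]
  simp

variable {n : ℕ} (f : (Fin n → R) →ₗ[R] V) (g : V →ₗ[R] (Fin n → R))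

/-- coefficient matrix with respect to a dual basis -/
noncomputable def cmat : Matrix (Fin n) (Fin n) A :=
  fun i j => cfR (A := A) ((LinearMap.proj i).comp g) (f (Pi.single j 1))

variable (hfg : f ∘ₗ g = LinearMap.id)
include hfg

lemma expand (y : V) : y = ∑ l, g y l • f (Pi.single l 1) := by
  conv_lhs => rw [← show f (g y) = y from LinearMap.congr_fun hfg y,
    pi_eq_sum_univ (g y)]
  rw [map_sum]
  refine Finset.sum_congr rfl fun l _ => ?_
  rw [map_smul]
  congr 2
  ext m
  simp [Pi.single_apply, eq_comm]

lemma cfR_eq_sum (ψ : V →ₗ[R] R) (y : V) :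
    cfR (A := A) ψ y = ∑ l, ∑ j, (ψ (f (Pi.single l 1)) * g y j) • cmat (A := A) f g l j := by
  conv_lhs => rw [expand f g hfg y, map_sum]
  rw [Finset.sum_comm]
  refine Finset.sum_congr rfl fun j _ => ?_
  rw [map_smul]
  have hψ : ψ = ∑ l, ψ (f (Pi.single l 1)) • (LinearMap.proj l).comp g := by
    refine LinearMap.ext fun z => ?_
    conv_lhs => rw [expand f g hfg z]
    simp [mul_comm]
  conv_lhs => rw [hψ]
  simp only [cmat, cfR, LinearMap.comp_apply, LinearMap.rTensor_def, LinearEquiv.coe_coe]
  generalize HopfRep.Comod.coact (k := R) (A := A) (f (Pi.single j 1)) = z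
  induction z using TensorProduct.induction_on with
  | zero => simp
  | tmul a b => simp [Finset.sum_smul, smul_smul, Finset.smul_sum, mul_comm, mul_left_comm]
  | add a b ha hb => simp only [map_add, smul_add, Finset.sum_add_distrib, ← ha, ← hb]

lemma coact_expand (y : V) : HopfRep.Comod.coact (k := R) (A := A) y =
    ∑ l, f (Pi.single l 1) ⊗ₜ[R] cfR (A := A) ((LinearMap.proj l).comp g) y := by
  simp only [cfR, LinearMap.comp_apply, LinearEquiv.coe_coe]
  generalize HopfRep.Comod.coact (k := R) (A := A) y = z
  induction z using TensorProduct.induction_on with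
  | zero => simp
  | tmul a b =>
    conv_lhs => rw [expand f g hfg a, TensorProduct.sum_tmul]
    simp [TensorProduct.smul_tmul]
  | add a b ha hb => simp only [map_add, TensorProduct.tmul_add, Finset.sum_add_distrib, ← ha, ← hb]

lemma comul_cmat (i j : Fin n) : Coalgebra.comul (R := R) (cmat (A := A) f g i j) =
    ∑ l, cmat (A := A) f g i l ⊗ₜ[R] cmat (A := A) f g l j := by
  rw [cmat, comul_cfR, coact_expand f g hfg, map_sum]
  rfl

lemma counit_cmat (i j : Fin n) :
    Coalgebra.counit (R := R) (cmat (A := A) f g i j) = LinearMap.toMatrix' (g ∘ₗ f) i j := by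
  rw [cmat, counit_cfR, LinearMap.toMatrix'_apply]
  simp

lemma proj_mul_cmat : (LinearMap.toMatrix' (g ∘ₗ f)).map (algebraMap R A) * cmat (A := A) f g =
    cmat (A := A) f g := by
  ext i j
  rw [Matrix.mul_apply]
  conv_rhs => rw [cmat, cfR_eq_sum f g hfg]
  refine Finset.sum_congr rfl fun l _ => ?_
  have hj : ∀ m, cfR (A := A) ((LinearMap.proj l).comp g) (f (Pi.single m 1)) = cmat (A := A) f g l m :=
    fun m => rfl
  have hexp : cmat (A := A) f g l j = ∑ m, g (f (Pi.single j 1)) m • cmat (A := A) f g l m := by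
    conv_lhs => rw [cmat, expand f g hfg (f (Pi.single j 1)), map_sum]
    exact Finset.sum_congr rfl fun m _ => by rw [map_smul, hj]
  simp only [Matrix.map_apply, LinearMap.toMatrix'_apply, LinearMap.comp_apply, LinearMap.proj_apply]
  rw [← Algebra.smul_def]
  conv_lhs => rw [hexp, Finset.smul_sum]
  exact Finset.sum_congr rfl fun m _ => smul_smul _ _ _

lemma cmat_mul_proj : cmat (A := A) f g * (LinearMap.toMatrix' (g ∘ₗ f)).map (algebraMap R A) =
    cmat (A := A) f g := by
  ext i j
  rw [Matrix.mul_apply]
  conv_rhs => rw [cmat, expand f g hfg (f (Pi.single j 1)), map_sum]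
  refine Finset.sum_congr rfl fun m _ => ?_
  simp [Matrix.map_apply, LinearMap.toMatrix'_apply, cmat, Algebra.smul_def, mul_comm]

/-- a comodule which is finite projective gives a corepresentation by an invertible matrix -/
theorem exists_matrix : ∃ a : Matrix (Fin n) (Fin n) A,
    (∀ i j, Coalgebra.comul (R := R) (a i j) = ∑ l, a i l ⊗ₜ[R] a l j) ∧
    (∀ i j, Coalgebra.counit (R := R) (a i j) = if i = j then 1 else 0) ∧
    ∀ (ψ : V →ₗ[R] R) (y : V),
      cfR (A := A) ψ y ∈ Algebra.adjoin R (Set.range fun p : Fin n × Fin n => a p.1 p.2) := by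
  classical
  set P := LinearMap.toMatrix' (g ∘ₗ f)
  have hPP : P * P = P := by
    rw [← LinearMap.toMatrix'_comp, LinearMap.comp_assoc, ← LinearMap.comp_assoc f g f, hfg, LinearMap.id_comp]
  set c := cmat (A := A) f g
  set Q : Matrix (Fin n) (Fin n) R := 1 - P
  refine ⟨c + Q.map (algebraMap R A), fun i j => ?_, fun i j => ?_, fun ψ y => ?_⟩
  · have h1 : c * Q.map (algebraMap R A) = 0 := by
      rw [Matrix.map_sub _ (map_sub _), Matrix.map_one _ (map_zero _) (map_one _), mul_sub, mul_one,
        cmat_mul_proj f g hfg, sub_self]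
    have h2 : Q.map (algebraMap R A) * c = 0 := by
      rw [Matrix.map_sub _ (map_sub _), Matrix.map_one _ (map_zero _) (map_one _), sub_mul, one_mul,
        proj_mul_cmat f g hfg, sub_self]
    have h3 : Q * Q = Q := by simp only [Q, mul_sub, sub_mul, one_mul, mul_one, hPP]; abel
    have e1 : ∀ l, c i l ⊗ₜ[R] algebraMap R A (Q l j) = (c i l * algebraMap R A (Q l j)) ⊗ₜ[R] (1 : A) := fun l => by
      rw [Algebra.algebraMap_eq_smul_one, TensorProduct.tmul_smul, TensorProduct.smul_tmul', mul_smul_comm, mul_one]
    have e2 : ∀ l, algebraMap R A (Q i l) ⊗ₜ[R] c l j = (1 : A) ⊗ₜ[R] (algebraMap R A (Q i l) * c l j) := fun l => by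
      rw [Algebra.algebraMap_eq_smul_one, TensorProduct.smul_tmul, smul_mul_assoc, one_mul]
    simp only [Matrix.add_apply, Matrix.map_apply, map_add, comul_cmat f g hfg i j, Bialgebra.comul_algebraMap,
      TensorProduct.add_tmul, TensorProduct.tmul_add, Finset.sum_add_distrib, e1, e2, c]
    have z1 := congrFun (congrFun h1 i) j
    have z2 := congrFun (congrFun h2 i) j
    simp only [Matrix.mul_apply, Matrix.map_apply, Matrix.zero_apply, c] at z1 z2
    rw [← TensorProduct.sum_tmul, ← TensorProduct.tmul_sum, z1, z2, TensorProduct.zero_tmul,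
      TensorProduct.tmul_zero, zero_add, add_zero]
    congr 1
    have z3 := congrFun (congrFun h3 i) j
    rw [Matrix.mul_apply] at z3
    rw [← z3, map_sum]
    refine Finset.sum_congr rfl fun l _ => ?_
    simp [Algebra.algebraMap_eq_smul_one, Algebra.TensorProduct.one_def, TensorProduct.tmul_smul,
      TensorProduct.smul_tmul', smul_smul, mul_comm]
  · rw [Matrix.add_apply, Matrix.map_apply, map_add, counit_cmat f g hfg, Bialgebra.counit_algebraMap]
    simp [Q, P, Matrix.one_apply]
  · rw [cfR_eq_sum f g hfg]
    refine sum_mem fun l _ => sum_mem fun j _ => Subalgebra.smul_mem _ ?_ _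
    rw [show cmat (A := A) f g l j = (c + Q.map (algebraMap R A)) l j - algebraMap R A (Q l j) by simp [c]]
    exact sub_mem (Algebra.subset_adjoin ⟨(l, j), rfl⟩) (Subalgebra.algebraMap_mem _ _)

end Coefficient

variable [Module.Flat R A] [IsNoetherianRing R]

/-- finite subsets lie in finitely generated subcomodules -/
theorem exists_fg_subcomod (s : Finset A) : ∃ U : Submodule R A, U.FG ∧ (s : Set A) ⊆ U ∧
    HopfRep.IsSubcomod (k := R) (A := A) U := by
  classical
  choose S hS using fun x : A => TensorProduct.exists_finset (Coalgebra.comul (R := R) x)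
  set N : Submodule R A := Submodule.span R ((s.biUnion fun x => (S x).image Prod.fst : Finset A) : Set A)
  let g : A →ₗ[R] (A ⧸ N) ⊗[R] A := N.mkQ.rTensor A ∘ₗ Coalgebra.comul
  set U := LinearMap.ker g
  have hUN : U ≤ N := by
    intro y hy
    have h := congrArg (fun z => TensorProduct.rid R (A ⧸ N) ((Coalgebra.counit (R := R)).lTensor (A ⧸ N) z))
      (LinearMap.mem_ker.1 hy)
    simp only [g, LinearMap.comp_apply, map_zero] at h
    rw [← Submodule.Quotient.mk_eq_zero N, ← h]
    conv_lhs => rw [show y = TensorProduct.rid R A ((Coalgebra.counit (R := R)).lTensor A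
      (Coalgebra.comul y)) by rw [Coalgebra.lTensor_counit_comul]; simp]
    generalize Coalgebra.comul (R := R) y = z
    induction z using TensorProduct.induction_on with
    | zero => simp
    | tmul a b => simp
    | add a b ha hb => simp only [map_add, Submodule.Quotient.mk_add, ha, hb]
  refine ⟨U, (Submodule.fg_span (Finset.finite_toSet _)).of_le hUN, fun x hx => ?_, fun y hy => ?_⟩
  · rw [SetLike.mem_coe, LinearMap.mem_ker]
    simp only [g, LinearMap.comp_apply]
    rw [hS x, map_sum]
    refine Finset.sum_eq_zero fun p hp => ?_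
    rw [LinearMap.rTensor_tmul, Submodule.mkQ_apply, (Submodule.Quotient.mk_eq_zero N).2
      (Submodule.subset_span (Finset.mem_coe.2 (Finset.mem_biUnion.2 ⟨x, hx, Finset.mem_image_of_mem _ hp⟩))),
      TensorProduct.zero_tmul]
  · have hex := Module.Flat.rTensor_exact A (LinearMap.exact_subtype_ker_map g)
    refine (hex _).1 ?_
    change g.rTensor A (Coalgebra.comul (R := R) y) = 0
    have e : ∀ z : A ⊗[R] A, g.rTensor A z = (TensorProduct.assoc R (A ⧸ N) A A).symm
        (N.mkQ.rTensor (A ⊗[R] A) (TensorProduct.assoc R A A A ((Coalgebra.comul (R := R)).rTensor A z))) := by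
      intro z
      induction z using TensorProduct.induction_on with
      | zero => simp
      | tmul a b =>
        simp only [g, LinearMap.rTensor_tmul, LinearMap.comp_apply]
        generalize Coalgebra.comul (R := R) a = w
        induction w using TensorProduct.induction_on with
        | zero => simp
        | tmul p q => simp
        | add p q hp hq => simp only [map_add, TensorProduct.add_tmul, hp, hq]
      | add a b ha hb => simp only [map_add, ha, hb]
    rw [e, Coalgebra.coassoc_apply]
    have e' : ∀ z : A ⊗[R] A, N.mkQ.rTensor (A ⊗[R] A) ((Coalgebra.comul (R := R)).lTensor A z) =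
        (Coalgebra.comul (R := R)).lTensor (A ⧸ N) (N.mkQ.rTensor A z) := fun z => by
      induction z using TensorProduct.induction_on with
      | zero => simp
      | tmul a b => simp
      | add a b ha hb => simp only [map_add, ha, hb]
    rw [e', show N.mkQ.rTensor A (Coalgebra.comul (R := R) y) = 0 from hy, map_zero, map_zero]

theorem exists_faithful_matrix [Algebra.FiniteType R A]
    (hRE : ∀ (F : Type u) [AddCommGroup F] [Module R F] [HopfRep.Comod R A F] [Module.Finite R F],
      ∃ (E : Type u) (_ : AddCommGroup E) (_ : Module R E) (_ : HopfRep.Comod R A E) (π : E →ₗ[R] F),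
        Module.Finite R E ∧ Module.Projective R E ∧ Function.Surjective π ∧
        HopfRep.Comod.coact (k := R) (A := A) ∘ₗ π =
          π.rTensor A ∘ₗ HopfRep.Comod.coact (k := R) (A := A) (V := E)) :
    ∃ (d : ℕ) (a : Matrix (Fin d) (Fin d) A),
      (∀ i j, CoalgebraStruct.comul (R := R) (a i j) = ∑ l, a i l ⊗ₜ[R] a l j) ∧
      (∀ i j, CoalgebraStruct.counit (R := R) (a i j) = if i = j then 1 else 0) ∧
      ∃ u : A, u * a.det = 1 ∧
        Algebra.adjoin R (Set.range (fun p : Fin d × Fin d => a p.1 p.2) ∪ {u}) = ⊤ := by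
  classical
  obtain ⟨s, hs⟩ := Algebra.FiniteType.out (R := R) (A := A)
  obtain ⟨U, hUfg, hsU, hU⟩ := exists_fg_subcomod (R := R) s
  let c : HopfRep.Comod R A A := inferInstance
  letI d := ComodSub.Comod.restr c U hU
  haveI : Module.Finite R U := Module.Finite.of_fg hUfg
  obtain ⟨E, _, _, _, π, hEfin, hEproj, hπ, hπc⟩ := hRE U
  obtain ⟨n, f, g, -, -, hfg⟩ := Module.Finite.exists_comp_eq_id_of_projective R E
  obtain ⟨a, haΔ, haε, hamem⟩ := exists_matrix (A := A) f g hfg
  have hinv : a * a.map (HopfAlgebraStruct.antipode R) = 1 := by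
    ext i j
    have h := HopfAlgebra.mul_antipode_lTensor_comul_apply (R := R) (a i j)
    rw [haΔ, haε, map_sum, map_sum] at h
    simp only [LinearMap.lTensor_tmul, LinearMap.mul'_apply] at h
    simp only [Matrix.mul_apply, Matrix.map_apply, Matrix.one_apply]
    rw [h]
    split_ifs <;> simp
  refine ⟨n, a, haΔ, haε, (a.map (HopfAlgebraStruct.antipode R)).det, ?_, ?_⟩
  · rw [mul_comm, ← Matrix.det_mul, hinv, Matrix.det_one]
  · refine top_le_iff.1 (hs ▸ Algebra.adjoin_le fun x hx => ?_)
    refine Algebra.adjoin_mono Set.subset_union_left ?_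
    obtain ⟨e, he⟩ := hπ ⟨x, hsU hx⟩
    -- `x` is the coefficient of the counit
    have key : ∀ v : U, cfR (A := A) (Coalgebra.counit (R := R) ∘ₗ U.subtype) v = (v : A) := by
      intro v
      simp only [cfR, LinearMap.comp_apply, LinearEquiv.coe_coe, LinearMap.rTensor_comp_apply]
      rw [show U.subtype.rTensor A (HopfRep.Comod.coact (k := R) (A := A) v) = Coalgebra.comul (R := R) (v : A)
        from ComodSub.restr_coact_coe c U hU v, Coalgebra.rTensor_counit_comul, TensorProduct.lid_tmul, one_smul]
    rw [show (x : A) = cfR (A := A) ((Coalgebra.counit (R := R) ∘ₗ U.subtype) ∘ₗ π) e by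
      rw [← cfR_comp hπc, he, key]]
    exact hamem _ _

end Groth.Misc1.Linear
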